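import Groth.Agent.AVTorsLib.Tate
import Mathlib.GroupTheory.PGroup

/-!
The cokernel of the Tate map of an isogeny.
-/

noncomputable section

set_option autoImplicit false
set_option linter.style.haveILetI false
set_option linter.unusedSectionVars false
set_option maxHeartbeats 1000000

universe u

open CategoryTheory MonoidalCategory CartesianMonoidalCategory MonObj AlgebraicGeometry

namespace Groth.Agent.AVTateSeq

variable {S : Scheme.{u}} {A B : Over S} [GrpObj A] [IsCommMonObj A] [GrpObj B] [IsCommMonObj B]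
  {T : Over S} {l : ℕ} [hl : Fact l.Prime]

open AbDual

theorem component_shift (x : TateMod A l T) (n j : ℕ) :
    (l ^ j) • (x : ℕ → Additive (T ⟶ A)) (n + j) = (x : ℕ → Additive (T ⟶ A)) n := by
  induction j with
  | zero => simp
  | succ j ih => rw [pow_succ, mul_nsmul', ← add_assoc, x.compat, ih]

/-- an element with vanishing `e`th component is divisible by `l^e` -/
theorem exists_eq_pow_smul (z : TateMod A l T) (e : ℕ) (h : (z : ℕ → Additive (T ⟶ A)) e = 0) :
    ∃ w : TateMod A l T, (l ^ e) • w = z := by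
  refine ⟨⟨fun n => (z : ℕ → Additive (T ⟶ A)) (n + e), fun n => ?_, fun n => ?_⟩, TateMod.ext fun n => ?_⟩
  · show (l ^ n) • (z : ℕ → Additive (T ⟶ A)) (n + e) = 0
    rw [add_comm n e, component_shift z e n, h]
  · show l • (z : ℕ → Additive (T ⟶ A)) (n + 1 + e) = (z : ℕ → Additive (T ⟶ A)) (n + e)
    rw [show n + 1 + e = n + e + 1 by omega, z.compat]
  · show TateMod.component A l T n ((l ^ e) • _) = _
    rw [map_nsmul]
    exact component_shift z n e

theorem torsion_free (z : TateMod A l T) (e : ℕ) (h : (l ^ e) • z = 0) : z = 0 := by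
  refine TateMod.ext fun n => ?_
  have h' := congrArg (TateMod.component A l T (n + e)) h
  rw [map_nsmul, map_zero] at h'
  rw [← component_shift z n e]
  exact h'

theorem nsmul_cancel (z z' : TateMod A l T) (e : ℕ) (h : (l ^ e) • z = (l ^ e) • z') : z = z' := by
  refine TateMod.ext fun n => ?_
  have h' := congrArg (TateMod.component A l T (n + e)) h
  rw [map_nsmul, map_nsmul] at h'
  rw [← component_shift z n e, ← component_shift z' n e]
  exact h'

theorem isUnit_natCast {m : ℕ} (hm : ¬ l ∣ m) : IsUnit (m : ℤ_[l]) := by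
  rw [PadicInt.isUnit_iff]
  refine le_antisymm (PadicInt.norm_le_one _) (not_lt.1 fun h => hm ?_)
  have := (PadicInt.norm_int_lt_one_iff_dvd (p := l) (k := (m : ℤ))).1 (by exact_mod_cast h)
  exact_mod_cast this

/-- the Tate sequence of a map with a quasi-inverse on points -/
theorem exists_equiv_coker (f : A ⟶ B) [IsMonHom f] (v : B ⟶ A) [IsMonHom v] (d : ℕ) (hd : d ≠ 0)
    (hfv : f ≫ v = 𝟙 A ^ d) (hvf : v ≫ f = 𝟙 B ^ d)
    (hdivA : ∀ n : ℕ, 1 ≤ n → ∀ x : Additive (T ⟶ A), ∃ y, n • y = x)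
    (hdivB : ∀ x : Additive (T ⟶ B), ∃ y, l • y = x)
    {N : Over S} [GrpObj N] [IsCommMonObj N] (i : N ⟶ A) [IsMonHom i]
    (hinj : ∀ a b : T ⟶ N, a ≫ i = b ≫ i → a = b) (hker : ∀ x : T ⟶ A, (∃ y, y ≫ i = x) ↔ x ≫ f = 1) :
    Function.Injective (tateMapₗ (l := l) (T := T) f) ∧
      Nonempty ((TateMod B l T ⧸ LinearMap.range (tateMapₗ (l := l) (T := T) f)) ≃+
        Additive ↥(CommGroup.primaryComponent (T ⟶ N) l)) := by
  obtain ⟨e, m, hm, rfl⟩ := Nat.exists_eq_pow_mul_and_not_dvd hd l hl.out.ne_one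
  have hfv' : ∀ x : T ⟶ A, (x ≫ f) ≫ v = x ^ (l ^ e * m) := fun x => by
    rw [Category.assoc, hfv, MonObj.comp_pow, Category.comp_id]
  have hvf' : ∀ x : T ⟶ B, (x ≫ v) ≫ f = x ^ (l ^ e * m) := fun x => by
    rw [Category.assoc, hvf, MonObj.comp_pow, Category.comp_id]
  have htv : ∀ z : TateMod A l T, tateMapₗ (l := l) (T := T) v (tateMapₗ (l := l) (T := T) f z) =
      (l ^ e * m) • z := fun z => TateMod.ext fun n => by
    show Additive.ofMul ((((z : ℕ → Additive (T ⟶ A)) n).toMul ≫ f) ≫ v) = (TateMod.component A l T n) ((l ^ e * m) • z)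
    rw [map_nsmul, hfv']
    rfl
  have htf : ∀ z : TateMod B l T, tateMapₗ (l := l) (T := T) f (tateMapₗ (l := l) (T := T) v z) =
      (l ^ e * m) • z := fun z => TateMod.ext fun n => by
    show Additive.ofMul ((((z : ℕ → Additive (T ⟶ B)) n).toMul ≫ v) ≫ f) = (TateMod.component B l T n) ((l ^ e * m) • z)
    rw [map_nsmul, hvf']
    rfl
  have hu := isUnit_natCast (l := l) hm
  refine ⟨(injective_iff_map_eq_zero _).2 fun x hx => ?_, ?_⟩
  · have h := htv x
    rw [hx, map_zero, mul_nsmul', ← Nat.cast_smul_eq_nsmul ℤ_[l] m] at h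
    exact (hu.smul_eq_zero).1 (torsion_free _ e h.symm)
  -- the kernel points
  have hcp : ∀ y : T ⟶ B, y ^ (l ^ e) = 1 → (y ≫ v) ≫ f = 1 ∧ (y ≫ v) ^ (l ^ e) = 1 := fun y hy => by
    refine ⟨by rw [hvf', pow_mul, hy, one_pow], ?_⟩
    rw [← MonObj.pow_comp, hy, MonObj.one_comp]
  have hlift : ∀ y : T ⟶ B, y ^ (l ^ e) = 1 → ∃ a : T ⟶ N, a ≫ i = y ≫ v := fun y hy =>
    (hker _).2 (hcp y hy).1
  have hlift' : ∀ y : TateMod B l T, ∃ a : T ⟶ N, a ≫ i = (TateMod.component B l T e y).toMul ≫ v :=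
    fun y => hlift _ (TateMod.component_mem y e)
  choose L hL using hlift'
  have hmem : ∀ y : TateMod B l T, L y ∈ CommGroup.primaryComponent (T ⟶ N) l := fun y => by
    rw [CommGroup.mem_primaryComponent]
    refine ⟨e, hinj _ _ ?_⟩
    rw [MonObj.pow_comp, hL, MonObj.one_comp]
    exact (hcp _ (TateMod.component_mem y e)).2
  let Ψ : TateMod B l T →+ Additive ↥(CommGroup.primaryComponent (T ⟶ N) l) :=
    AddMonoidHom.mk' (fun y => Additive.ofMul ⟨_, hmem y⟩) fun y y' => congrArg Additive.ofMul (Subtype.ext (hinj _ _ (by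
      show L _ ≫ i = (L _ * L _) ≫ i
      rw [MonObj.mul_comp, hL, hL, hL, map_add, toMul_add, MonObj.mul_comp])))
  have hker' : Ψ.ker = (LinearMap.range (tateMapₗ (l := l) (T := T) f)).toAddSubgroup := by
    ext y
    rw [AddMonoidHom.mem_ker]
    constructor
    · intro hy
      have h1 : (TateMod.component B l T e y).toMul ≫ v = 1 := by
        rw [← hL y, show L y = 1 from congrArg (fun z => (z.toMul : T ⟶ N)) hy,
          MonObj.one_comp]
      obtain ⟨w, hw⟩ := exists_eq_pow_smul (tateMapₗ (l := l) (T := T) v y) e (congrArg Additive.ofMul h1)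
      have h2 := htf y
      rw [← hw, map_nsmul] at h2
      rw [mul_nsmul'] at h2
      have h4 : tateMapₗ (l := l) (T := T) f w = m • y := nsmul_cancel (A := B) _ _ e h2
      refine ⟨(↑(hu.unit⁻¹) : ℤ_[l]) • w, ?_⟩
      rw [map_smul, h4, ← Nat.cast_smul_eq_nsmul ℤ_[l] m, smul_smul, IsUnit.val_inv_mul, one_smul]
    · rintro ⟨x, rfl⟩
      refine congrArg Additive.ofMul (Subtype.ext (hinj _ _ ?_))
      show L _ ≫ i = (1 : T ⟶ N) ≫ i
      rw [hL, MonObj.one_comp]
      show (((x : ℕ → Additive (T ⟶ A)) e).toMul ≫ f) ≫ v = 1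
      rw [hfv', pow_mul, show ((x : ℕ → Additive (T ⟶ A)) e).toMul ^ l ^ e = 1 from x.component_mem e, one_pow]
  have hsurj : Function.Surjective Ψ := by
    intro κ
    obtain ⟨⟨a, ha⟩, rfl⟩ := Additive.ofMul.surjective κ
    obtain ⟨j, hj⟩ := CommGroup.mem_primaryComponent.1 ha
    -- `a` is killed by `l^e`
    have hd' : a ^ (l ^ e * m) = 1 := hinj _ _ (by
      rw [MonObj.pow_comp, ← hfv', (hker (a ≫ i)).1 ⟨a, rfl⟩, MonObj.one_comp, MonObj.one_comp])
    have hae : a ^ (l ^ e) = 1 := by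
      have hg : a ^ Nat.gcd (l ^ j) (l ^ e * m) = 1 := pow_gcd_eq_one.2 ⟨hj, hd'⟩
      refine orderOf_dvd_iff_pow_eq_one.1 ((orderOf_dvd_of_pow_eq_one hg).trans ?_)
      rw [Nat.Coprime.gcd_mul_right_cancel_right _ (Nat.Coprime.symm
        (Nat.Coprime.pow_left _ ((Nat.Prime.coprime_iff_not_dvd hl.out).2 hm)))]
      exact Nat.gcd_dvd_right _ _
    -- divide `a` by `m` among the points killed by `l^e`
    obtain ⟨r, hr⟩ : ∃ r : ℕ, a ^ (m * r) = a := by
      have hc : Nat.Coprime m (orderOf a) := Nat.Coprime.coprime_dvd_right (orderOf_dvd_of_pow_eq_one hae)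
        (Nat.Coprime.symm (Nat.Coprime.pow_left _ ((Nat.Prime.coprime_iff_not_dvd hl.out).2 hm)))
      obtain ⟨r, hr⟩ := exists_pow_eq_self_of_coprime hc
      exact ⟨r, by rw [pow_mul]; exact hr⟩
    obtain ⟨b, hb⟩ := hdivA (l ^ e) (Nat.one_le_pow _ _ hl.out.pos) (Additive.ofMul ((a ^ r) ≫ i))
    have hb' : b.toMul ^ (l ^ e) = (a ^ r) ≫ i := congrArg Additive.toMul hb
    have hfb : (b.toMul ≫ f) ^ (l ^ e) = 1 := by
      rw [← MonObj.pow_comp, hb', (hker _).1 ⟨_, rfl⟩]
    obtain ⟨y, hy⟩ := AVTorsLib.exists_component_eq hdivB e (b.toMul ≫ f) hfb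
    refine ⟨y, congrArg Additive.ofMul (Subtype.ext (hinj _ _ ?_))⟩
    show L y ≫ i = a ≫ i
    rw [hL, show (TateMod.component B l T e y).toMul = b.toMul ≫ f from congrArg Additive.toMul hy, hfv', pow_mul, hb',
      ← MonObj.pow_comp, ← pow_mul, mul_comm r m, hr]
  exact ⟨(QuotientAddGroup.quotientAddEquivOfEq hker'.symm).trans
    (QuotientAddGroup.quotientKerEquivOfSurjective Ψ hsurj)⟩

end Groth.Agent.AVTateSeq

end
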